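import Mathlib

universe u
set_option autoImplicit false
open scoped TensorProduct
open IsLocalRing

namespace GrSm

theorem formallyEtale_of_basis {A C T : Type u} [CommRing A] [CommRing C] [CommRing T] [Algebra A C] [Algebra A T]
    [Algebra C T] [IsScalarTower A C T] [Algebra.FormallySmooth A T] {κ : Type u}
    (bC : Module.Basis κ C (Ω[C⁄A])) (bT : Module.Basis κ T (Ω[T⁄A]))
    (h : ∀ i, KaehlerDifferential.map A A C T (bC i) = bT i) :
    Algebra.FormallyEtale C T := by
  have heq : KaehlerDifferential.mapBaseChange A C T = ((bC.baseChange T).equiv bT (Equiv.refl κ)).toLinearMap := by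
    refine (bC.baseChange T).ext fun i => ?_
    rw [Module.Basis.baseChange_apply, KaehlerDifferential.mapBaseChange_tmul, one_smul, h]
    show bT i = (bC.baseChange T).equiv bT (Equiv.refl κ) (1 ⊗ₜ bC i)
    rw [← Module.Basis.baseChange_apply, Module.Basis.equiv_apply]
    rfl
  have hbij : Function.Bijective (KaehlerDifferential.mapBaseChange A C T) := by
    rw [heq]; exact LinearEquiv.bijective _
  rw [Algebra.formallyEtale_iff]
  refine ⟨subsingleton_of_forall_eq 0 fun y => ?_, subsingleton_of_forall_eq 0 fun x => ?_⟩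
  · obtain ⟨z, rfl⟩ := KaehlerDifferential.map_surjective A C T y
    obtain ⟨w, rfl⟩ := hbij.2 z
    exact ((KaehlerDifferential.exact_mapBaseChange_map A C T) _).mpr ⟨w, rfl⟩
  · have h0 : Algebra.H1Cotangent.δ A C T x = 0 := hbij.1 (by
      rw [map_zero]; exact ((Algebra.H1Cotangent.exact_δ_mapBaseChange A C T) _).mpr ⟨x, rfl⟩)
    obtain ⟨z, rfl⟩ := ((Algebra.H1Cotangent.exact_map_δ A C T) x).mp h0
    rw [Subsingleton.elim z 0, map_zero]

theorem subsingleton_of_residue_tensor {T₂ T₁ M : Type u} [CommRing T₂] [CommRing T₁] [IsLocalRing T₂]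
    [IsLocalRing T₁] [Algebra T₂ T₁] [IsLocalHom (algebraMap T₂ T₁)] [AddCommGroup M] [Module T₂ M]
    [Module.Finite T₂ M] (h : Subsingleton (ResidueField T₁ ⊗[T₂] M)) : Subsingleton M := by
  rw [← IsLocalRing.subsingleton_tensorProduct (R := T₂)]
  haveI : Subsingleton (ResidueField T₁ ⊗[ResidueField T₂] (ResidueField T₂ ⊗[T₂] M)) :=
    (TensorProduct.AlgebraTensorModule.cancelBaseChange T₂ (ResidueField T₂) (ResidueField T₁)
      (ResidueField T₁) M).toEquiv.subsingleton
  exact (Module.FaithfullyFlat.subsingleton_tensorProduct_iff_right (ResidueField T₂) (ResidueField T₁)).mp ‹_›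

theorem isEtaleAt_of_section {A B₁ B₂ : Type u}
    [CommRing A] [CommRing B₁] [CommRing B₂] [Algebra A B₁] [Algebra A B₂] [Algebra B₂ B₁]
    [IsScalarTower A B₂ B₁] [Algebra.FiniteType A B₁] [Algebra.FiniteType A B₂]
    (σ₁ : B₁ →ₐ[A] A) (σ₂ : B₂ →ₐ[A] A)
    (hle : RingHom.ker σ₂ ≤ (RingHom.ker σ₁).comap (IsScalarTower.toAlgHom A B₂ B₁))
    (hcot : Function.Bijective
      (Ideal.mapCotangent (RingHom.ker σ₂) (RingHom.ker σ₁) (IsScalarTower.toAlgHom A B₂ B₁) hle))
    (P : Ideal B₁) [P.IsPrime] (hP : RingHom.ker σ₁ ≤ P) [Algebra.IsSmoothAt A P] :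
    Algebra.IsEtaleAt B₂ P := by
  classical
  let P₂ := P.under B₂
  let T₁ := Localization.AtPrime P
  let T₂ := Localization.AtPrime P₂
  haveI : P.LiesOver P₂ := ⟨rfl⟩
  letI := Localization.AtPrime.algebraOfLiesOver P₂ P
  haveI : IsScalarTower B₂ T₂ T₁ := IsScalarTower.of_algebraMap_eq fun x => by
    show algebraMap B₂ T₁ x = Localization.localRingHom P₂ P (algebraMap B₂ B₁) (P.over_def P₂) (algebraMap B₂ T₂ x)
    rw [Localization.localRingHom_to_map, ← IsScalarTower.algebraMap_apply]
  haveI : IsScalarTower A T₂ T₁ := IsScalarTower.of_algebraMap_eq fun x => by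
    rw [IsScalarTower.algebraMap_apply A B₂ T₂, ← IsScalarTower.algebraMap_apply B₂ T₂ T₁,
      ← IsScalarTower.algebraMap_apply A B₂ T₁]
  haveI : IsLocalHom (algebraMap T₂ T₁) := Localization.isLocalHom_localRingHom _ _ _ _
  haveI : Algebra.EssFiniteType B₁ T₁ := Algebra.EssFiniteType.of_isLocalization _ P.primeCompl
  haveI : Algebra.EssFiniteType A T₁ := Algebra.EssFiniteType.comp A B₁ T₁
  haveI : Algebra.EssFiniteType B₂ T₂ := Algebra.EssFiniteType.of_isLocalization _ P₂.primeCompl
  haveI : Algebra.EssFiniteType A T₂ := Algebra.EssFiniteType.comp A B₂ T₂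
  haveI : Module.FinitePresentation T₁ (Ω[T₁⁄A]) := Module.finitePresentation_of_projective _ _
  let v : RingHom.ker σ₂ → Ω[T₁⁄A] := fun w => KaehlerDifferential.D A T₁ (algebraMap B₂ T₁ w.1)
  have hkillΩ : ∀ b ∈ RingHom.ker σ₁, ∀ m : Ω[T₁⁄A], b • m ∈ maximalIdeal T₁ • (⊤ : Submodule T₁ (Ω[T₁⁄A])) := by
    intro b hb m
    rw [← algebraMap_smul T₁ b m]
    exact Submodule.smul_mem_smul (by
      rw [← Localization.AtPrime.map_eq_maximalIdeal]; exact Ideal.mem_map_of_mem _ (hP hb)) trivial
  have hspan : Submodule.span T₁ (Set.range v) = ⊤ := by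
    rw [eq_top_iff]
    refine Submodule.le_of_le_smul_of_le_jacobson_bot (Module.Finite.fg_top) (maximalIdeal_le_jacobson _) ?_
    refine (KaehlerDifferential.span_range_map_derivation_of_isLocalization A B₁ T₁ P.primeCompl).ge.trans ?_
    rw [Submodule.span_le]
    rintro _ ⟨b, rfl⟩
    rw [Function.comp_apply, KaehlerDifferential.map_D]
    have hb' : b - algebraMap A B₁ (σ₁ b) ∈ RingHom.ker σ₁ := by
      show σ₁ (b - algebraMap A B₁ (σ₁ b)) = 0
      rw [map_sub, σ₁.commutes, Algebra.algebraMap_self_apply, sub_self]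
    obtain ⟨c, hc⟩ := hcot.2 ((RingHom.ker σ₁).toCotangent ⟨_, hb'⟩)
    obtain ⟨w, rfl⟩ := (RingHom.ker σ₂).toCotangent_surjective c
    rw [Ideal.mapCotangent_toCotangent, Ideal.toCotangent_eq] at hc
    have hsq : ∀ z ∈ RingHom.ker σ₁ ^ 2, KaehlerDifferential.D A T₁ (algebraMap B₁ T₁ z) ∈
        maximalIdeal T₁ • (⊤ : Submodule T₁ (Ω[T₁⁄A])) := by
      intro z hz
      rw [pow_two] at hz
      refine Submodule.mul_induction_on hz (fun x hx y hy => ?_) (fun x y hx hy => ?_)
      · rw [map_mul, Derivation.leibniz]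
        refine add_mem ?_ ?_ <;>
          · rw [algebraMap_smul]
            exact hkillΩ _ ‹_› _
      · rw [map_add, map_add]; exact add_mem hx hy
    have h1 := hsq _ hc
    rw [map_sub, map_sub, map_sub, map_sub] at h1
    rw [← IsScalarTower.algebraMap_apply A B₁ T₁, Derivation.map_algebraMap, sub_zero] at h1
    change KaehlerDifferential.D A T₁ (algebraMap B₁ T₁ (algebraMap B₂ B₁ w.1)) - _ ∈ _ at h1
    rw [← IsScalarTower.algebraMap_apply] at h1
    rw [SetLike.mem_coe, Submodule.mem_sup]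
    exact ⟨v w, Submodule.subset_span ⟨w, rfl⟩, _, neg_mem h1, by
      simp only [v]
      abel⟩
  obtain ⟨κ, a, bT, hbT⟩ := Module.exists_basis_of_span_of_flat v hspan
  let C := MvPolynomial κ A
  let z : κ → T₂ := fun i => algebraMap B₂ T₂ (a i).1
  letI : Algebra C T₂ := (MvPolynomial.aeval z).toRingHom.toAlgebra
  haveI : IsScalarTower A C T₂ := IsScalarTower.of_algebraMap_eq fun x => ((MvPolynomial.aeval z).commutes x).symm
  letI : Algebra C T₁ := ((algebraMap T₂ T₁).comp (algebraMap C T₂)).toAlgebra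
  haveI : IsScalarTower C T₂ T₁ := IsScalarTower.of_algebraMap_eq' rfl
  haveI : IsScalarTower A C T₁ := IsScalarTower.of_algebraMap_eq fun x => by
    rw [IsScalarTower.algebraMap_apply C T₂ T₁, ← IsScalarTower.algebraMap_apply A C T₂,
      ← IsScalarTower.algebraMap_apply A T₂ T₁]
  have hX : ∀ i, algebraMap C T₂ (MvPolynomial.X i) = z i := fun i => MvPolynomial.aeval_X z i
  haveI : Algebra.FormallyEtale C T₁ := formallyEtale_of_basis (KaehlerDifferential.mvPolynomialBasis A κ) bT fun i => by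
    rw [KaehlerDifferential.mvPolynomialBasis_apply, KaehlerDifferential.map_D,
      IsScalarTower.algebraMap_apply C T₂ T₁, hX, hbT, ← IsScalarTower.algebraMap_apply]
  haveI : Algebra.EssFiniteType C T₂ := Algebra.EssFiniteType.of_comp A C T₂
  haveI : Algebra.FormallyUnramified C T₂ := by
    rw [Algebra.formallyUnramified_iff]
    refine subsingleton_of_residue_tensor (T₂ := T₂) (T₁ := T₁) ?_
    let K := ResidueField T₁
    let M₂ := K ⊗[T₂] Ω[T₂⁄C]
    have hK : ∀ x ∈ P, algebraMap B₁ K x = 0 := fun x hx => by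
      rw [IsScalarTower.algebraMap_apply B₁ T₁ K, IsLocalRing.ResidueField.algebraMap_eq, residue_eq_zero_iff,
        IsLocalization.AtPrime.to_map_mem_maximal_iff T₁ P]
      exact hx
    have hK₂ : ∀ x ∈ RingHom.ker σ₂, algebraMap B₂ K x = 0 := fun x hx => by
      rw [IsScalarTower.algebraMap_apply B₂ B₁ K]
      exact hK _ (hP (hle hx))
    have hB₂ : ∀ (b : B₂) (m : M₂), b • m = algebraMap B₂ K b • m := fun b m => (algebraMap_smul K b m).symm
    have htm : ∀ (b : B₂) (e : Ω[T₂⁄C]), (1 : K) ⊗ₜ[T₂] (algebraMap B₂ T₂ b • e) = algebraMap B₂ K b • ((1 : K) ⊗ₜ[T₂] e) :=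
      fun b e => by
        rw [TensorProduct.tmul_smul, ← algebraMap_smul K (algebraMap B₂ T₂ b) ((1 : K) ⊗ₜ[T₂] e),
          ← IsScalarTower.algebraMap_apply]
    let c₀ : RingHom.ker σ₂ →ₗ[B₂] M₂ :=
      { toFun := fun w => (1 : K) ⊗ₜ[T₂] KaehlerDifferential.D C T₂ (algebraMap B₂ T₂ w.1)
        map_add' := fun x y => by
          rw [Submodule.coe_add, map_add, map_add, TensorProduct.tmul_add]
        map_smul' := fun b w => by
          rw [RingHom.id_apply, Submodule.coe_smul, smul_eq_mul, map_mul, Derivation.leibniz,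
            TensorProduct.tmul_add, htm, htm, hK₂ w.1 w.2, zero_smul, add_zero, hB₂] }
    let c : (RingHom.ker σ₂).Cotangent →ₗ[B₂] M₂ := Submodule.liftQ _ c₀ (by
      rw [Submodule.smul_le]
      intro r hr w _
      rw [LinearMap.mem_ker, map_smul, hB₂, hK₂ r hr, zero_smul])
    let e := LinearEquiv.ofBijective _ hcot
    let c' : (RingHom.ker σ₁).Cotangent →ₗ[A] M₂ := (c.restrictScalars A) ∘ₗ e.symm.toLinearMap
    let r : B₁ →ₗ[A] RingHom.ker σ₁ :=
      { toFun := fun x => ⟨x - algebraMap A B₁ (σ₁ x), by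
          show σ₁ (x - algebraMap A B₁ (σ₁ x)) = 0
          rw [map_sub, σ₁.commutes, Algebra.algebraMap_self_apply, sub_self]⟩
        map_add' := fun x y => Subtype.ext (by simp [sub_add_sub_comm])
        map_smul' := fun s x => Subtype.ext (by simp [smul_sub, Algebra.smul_def, mul_sub]) }
    have hB₁ : ∀ (x : B₁) (m : M₂), x • m = σ₁ x • m := fun x m => by
      rw [← algebraMap_smul K x m, ← algebraMap_smul K (σ₁ x) m, IsScalarTower.algebraMap_apply A B₁ K]
      congr 1
      rw [← sub_eq_zero, ← map_sub]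
      exact hK _ (hP (r x).2)
    let δ : Derivation A B₁ M₂ := Derivation.mk'
      (c' ∘ₗ ((RingHom.ker σ₁).toCotangent.restrictScalars A) ∘ₗ r) (fun x y => by
        have hr : (RingHom.ker σ₁).toCotangent (r (x * y)) =
            σ₁ x • (RingHom.ker σ₁).toCotangent (r y) + σ₁ y • (RingHom.ker σ₁).toCotangent (r x) := by
          rw [← LinearMap.map_smul_of_tower (RingHom.ker σ₁).toCotangent (σ₁ x) (r y), ← LinearMap.map_smul_of_tower (RingHom.ker σ₁).toCotangent (σ₁ y) (r x), ← map_add, Ideal.toCotangent_eq, pow_two]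
          have : ((r (x * y)).1 - (σ₁ x • r y + σ₁ y • r x : RingHom.ker σ₁).1) = (r x).1 * (r y).1 := by
            simp only [r, LinearMap.coe_mk, AddHom.coe_mk, Submodule.coe_add, Submodule.coe_smul_of_tower,
              Algebra.smul_def, map_mul]
            ring
          rw [this]
          exact Ideal.mul_mem_mul (r x).2 (r y).2
        simp only [LinearMap.comp_apply, LinearMap.coe_restrictScalars]
        rw [hr, map_add, map_smul, map_smul, hB₁, hB₁])
    have hδ : ∀ w : RingHom.ker σ₂, δ (algebraMap B₂ B₁ w.1) = c₀ w := by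
      intro w
      show c' ((RingHom.ker σ₁).toCotangent (r (algebraMap B₂ B₁ w.1))) = _
      have h0 : σ₁ (algebraMap B₂ B₁ w.1) = 0 := hle w.2
      have h1 : (RingHom.ker σ₁).toCotangent (r (algebraMap B₂ B₁ w.1)) = e ((RingHom.ker σ₂).toCotangent w) := by
        rw [LinearEquiv.ofBijective_apply, Ideal.mapCotangent_toCotangent]
        congr 1
        exact Subtype.ext (show algebraMap B₂ B₁ w.1 - algebraMap A B₁ (σ₁ (algebraMap B₂ B₁ w.1)) = algebraMap B₂ B₁ w.1 by
          rw [h0, map_zero, sub_zero])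
      rw [h1]
      show c (e.symm (e ((RingHom.ker σ₂).toCotangent w))) = _
      rw [LinearEquiv.symm_apply_apply]
      rfl
    haveI := Algebra.FormallyEtale.of_isLocalization (Rₘ := T₁) P.primeCompl
    have hbc := KaehlerDifferential.isBaseChange_of_formallyEtale A B₁ T₁
    let Φ : Ω[T₁⁄A] →ₗ[T₁] M₂ := hbc.lift δ.liftKaehlerDifferential
    have hΦ : ∀ w : RingHom.ker σ₂, Φ (v w) = c₀ w := by
      intro w
      have := hbc.lift_eq δ.liftKaehlerDifferential (KaehlerDifferential.D A B₁ (algebraMap B₂ B₁ w.1))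
      rw [KaehlerDifferential.map_D, Derivation.liftKaehlerDifferential_comp_D, hδ,
        ← IsScalarTower.algebraMap_apply] at this
      exact this
    have hΦ0 : Φ = 0 := bT.ext fun i => by
      rw [hbT, hΦ, LinearMap.zero_apply]
      show (1 : K) ⊗ₜ[T₂] KaehlerDifferential.D C T₂ (z i) = 0
      rw [← hX, Derivation.map_algebraMap, TensorProduct.tmul_zero]
    refine subsingleton_of_forall_eq 0 fun m => ?_
    induction m using TensorProduct.induction_on with
    | zero => rfl
    | add x y hx hy => rw [hx, hy, add_zero]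
    | tmul k e' =>
      suffices (1 : K) ⊗ₜ[T₂] e' = 0 by
        rw [← mul_one k, ← smul_eq_mul, ← TensorProduct.smul_tmul', this, smul_zero]
      have key : ∀ x : T₂, (1 : K) ⊗ₜ[T₂] KaehlerDifferential.D C T₂ x = 0 := by
        intro x
        obtain ⟨b, s, rfl⟩ := IsLocalization.exists_mk'_eq P₂.primeCompl x
        have hzero : ∀ b : B₂, (1 : K) ⊗ₜ[T₂] KaehlerDifferential.D C T₂ (algebraMap B₂ T₂ b) = 0 := by
          intro b
          have hw : b - algebraMap A B₂ (σ₂ b) ∈ RingHom.ker σ₂ := by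
            show σ₂ (b - algebraMap A B₂ (σ₂ b)) = 0
            rw [map_sub, σ₂.commutes, Algebra.algebraMap_self_apply, sub_self]
          have h2 : c₀ ⟨_, hw⟩ = 0 := by rw [← hΦ, hΦ0, LinearMap.zero_apply]
          have h3 : KaehlerDifferential.D C T₂ (algebraMap B₂ T₂ (algebraMap A B₂ (σ₂ b))) = 0 := by
            rw [← IsScalarTower.algebraMap_apply A B₂ T₂, IsScalarTower.algebraMap_apply A C T₂, Derivation.map_algebraMap]
          simpa [c₀, map_sub, h3] using h2
        have hs : algebraMap B₂ K s.1 ≠ 0 := by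
          rw [IsScalarTower.algebraMap_apply B₂ B₁ K, IsScalarTower.algebraMap_apply B₁ T₁ K,
            IsLocalRing.ResidueField.algebraMap_eq, Ne, residue_eq_zero_iff,
            IsLocalization.AtPrime.to_map_mem_maximal_iff T₁ P]
          exact s.2
        have h4 := hzero b
        rw [← IsLocalization.mk'_spec T₂ b s, Derivation.leibniz, TensorProduct.tmul_add, TensorProduct.tmul_smul,
          hzero, smul_zero, zero_add, htm] at h4
        exact (smul_eq_zero.mp h4).resolve_left hs
      have hle' : Submodule.span T₂ (Set.range (KaehlerDifferential.D C T₂)) ≤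
          LinearMap.ker ((TensorProduct.mk T₂ K (Ω[T₂⁄C])) 1) := Submodule.span_le.mpr (by
        rintro _ ⟨x, rfl⟩; exact key x)
      rw [KaehlerDifferential.span_range_derivation] at hle'
      exact hle' (Submodule.mem_top : e' ∈ ⊤)
  haveI : Algebra.FormallyEtale T₂ T₁ := Algebra.FormallyEtale.of_restrictScalars (R := C)
  haveI : Algebra.FormallyEtale B₂ T₂ := Algebra.FormallyEtale.of_isLocalization P₂.primeCompl
  exact Algebra.FormallyEtale.comp B₂ T₂ T₁

end GrSm
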