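import Mathlib

universe u
set_option autoImplicit false

namespace GrSm

/-- Smooth quotient of a local ring by an ideal in `m^2`-type position is trivial. -/
theorem ker_eq_bot_of_formallySmooth {A S T : Type u} [CommRing A] [CommRing S] [CommRing T] [Algebra A S]
    [Algebra A T] [IsLocalRing S] [Algebra.FormallySmooth A S] [Algebra.FormallySmooth A T] (π : S →ₐ[A] T)
    (hπ : Function.Surjective π) (hfg : (RingHom.ker π.toRingHom).FG)
    (hJ : RingHom.ker π.toRingHom ≤ IsLocalRing.maximalIdeal S ^ 2) : RingHom.ker π.toRingHom = ⊥ := by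
  set J := RingHom.ker π.toRingHom with hJdef
  set m := IsLocalRing.maximalIdeal S
  obtain ⟨g, hg⟩ := (Algebra.FormallySmooth.iff_split_surjection π hπ).mp inferInstance
  let q := Ideal.Quotient.mk (J ^ 2)
  let D : S → S ⧸ J ^ 2 := fun x => q x - g (π x)
  have hDJ : ∀ x, D x ∈ J.map q := by
    intro x
    obtain ⟨y, hy⟩ := Ideal.Quotient.mk_surjective (g (π x))
    have h1 : π y = π x := by
      have := congr($hg (π x))
      rw [AlgHom.comp_apply, AlgHom.id_apply, ← hy] at this
      exact this
    show q x - g (π x) ∈ J.map q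
    rw [← hy, ← map_sub]
    exact Ideal.mem_map_of_mem q (show π (x - y) = 0 by rw [map_sub, h1, sub_self])
  have hgm : ∀ x ∈ m, g (π x) ∈ m.map q := by
    intro x hx
    have h : g (π x) = q x - D x := (sub_sub_cancel _ _).symm
    rw [h]
    refine sub_mem (Ideal.mem_map_of_mem q hx) (Ideal.map_mono ?_ (hDJ x))
    exact hJ.trans (Ideal.pow_le_self two_ne_zero)
  have hmul : ∀ a ∈ m, ∀ b ∈ m, D (a * b) ∈ (m * J).map q := by
    intro a ha b hb
    have : D (a * b) = q a * D b + g (π b) * D a := by
      simp only [D, map_mul]; ring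
    rw [this, Ideal.map_mul]
    exact add_mem (Ideal.mul_mem_mul (Ideal.mem_map_of_mem q ha) (hDJ b))
      (Ideal.mul_mem_mul (hgm b hb) (hDJ a))
  have hsq : ∀ x ∈ m ^ 2, D x ∈ (m * J).map q := by
    intro x hx
    rw [pow_two] at hx
    refine Submodule.mul_induction_on hx hmul (fun x y hx hy => ?_)
    have : D (x + y) = D x + D y := by simp only [D, map_add]; ring
    rw [this]; exact add_mem hx hy
  refine Submodule.eq_bot_of_le_smul_of_le_jacobson_bot m J hfg ?_ (IsLocalRing.maximalIdeal_le_jacobson _)
  intro f hf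
  have h0 : D f = q f := by
    show q f - g (π f) = q f
    rw [show π f = 0 from hf, map_zero, sub_zero]
  have h1 := hsq f (hJ hf)
  rw [h0] at h1
  obtain ⟨w, hw, hwf⟩ := (Ideal.mem_map_iff_of_surjective q Ideal.Quotient.mk_surjective).mp h1
  have h2 : f - w ∈ J ^ 2 := (Ideal.Quotient.eq).mp hwf.symm
  show f ∈ m * J
  rw [show f = (f - w) + w by ring]
  refine add_mem (Ideal.mul_mono_left ?_ (by rwa [← pow_two])) hw
  exact hJ.trans (Ideal.pow_le_self two_ne_zero)

theorem constantCoeff_ker {A : Type u} [CommRing A] {σ : Type} :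
    RingHom.ker (MvPolynomial.constantCoeff (σ := σ) (R := A)) = Ideal.span (Set.range MvPolynomial.X) := by
  apply le_antisymm
  · intro f hf
    rw [← Set.image_univ, MvPolynomial.mem_ideal_span_X_image]
    intro m hm
    by_contra h
    push_neg at h
    have hm0 : m = 0 := Finsupp.ext fun i => h i (Set.mem_univ i)
    subst hm0
    exact (MvPolynomial.mem_support_iff.mp hm) hf
  · rw [Ideal.span_le]
    rintro _ ⟨i, rfl⟩
    exact MvPolynomial.constantCoeff_X (σ := σ) A i

/-- A smooth-along-the-zero-section quotient of a polynomial ring by an ideal in the square of the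
ideal of the zero section is trivial. -/
theorem injective_of_smooth_at_zero_section {A B : Type u} [CommRing A] [IsNoetherianRing A] [CommRing B]
    [Algebra A B] {n : ℕ} (ψ : MvPolynomial (Fin n) A →ₐ[A] B) (hψ : Function.Surjective ψ)
    (hJ : RingHom.ker ψ.toRingHom ≤ RingHom.ker (MvPolynomial.constantCoeff (σ := Fin n) (R := A)) ^ 2)
    (hsm : ∀ (P : Ideal B) [P.IsPrime],
      (RingHom.ker (MvPolynomial.constantCoeff (σ := Fin n) (R := A))).map ψ.toRingHom ≤ P →
        Algebra.IsSmoothAt A P) :
    Function.Injective ψ := by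
  set R := MvPolynomial (Fin n) A
  set I : Ideal R := RingHom.ker (MvPolynomial.constantCoeff (σ := Fin n) (R := A)) with hI
  rw [injective_iff_map_eq_zero]
  intro f hf
  by_contra hne
  let ann : Ideal R := Submodule.colon (⊥ : Ideal R) {f}
  have hann : ∀ s, s ∈ ann ↔ s * f = 0 := fun s => by
    simp [ann, Submodule.mem_colon]
  have htop : ann ⊔ I = ⊤ := by
    by_contra h
    obtain ⟨Q, hQ, hle⟩ := Ideal.exists_le_maximal _ h
    have hker : RingHom.ker ψ.toRingHom ≤ Q :=
      (hJ.trans (Ideal.pow_le_self two_ne_zero)).trans (le_sup_right.trans hle)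
    set P := Q.map ψ.toRingHom with hPdef
    haveI hP : P.IsPrime := Ideal.map_isPrime_of_surjective hψ hker
    have hcomap : P.comap ψ.toRingHom = Q := by
      rw [hPdef, Ideal.comap_map_of_surjective ψ.toRingHom hψ, sup_eq_left, ← RingHom.ker_eq_comap_bot]; exact hker
    haveI := hsm P (Ideal.map_mono (le_sup_right.trans hle))
    let π : Localization.AtPrime Q →ₐ[A] Localization.AtPrime P :=
      { Localization.localRingHom Q P ψ.toRingHom hcomap.symm with
        commutes' := fun a => by
          show Localization.localRingHom Q P ψ.toRingHom hcomap.symm (algebraMap A _ a) = algebraMap A _ a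
          rw [IsScalarTower.algebraMap_apply A R (Localization.AtPrime Q), Localization.localRingHom_to_map,
            IsScalarTower.algebraMap_apply A B (Localization.AtPrime P)]
          exact congrArg _ (ψ.commutes a) }
    have hπ : Function.Surjective π := by
      intro z
      obtain ⟨b, ⟨s, hs⟩, rfl⟩ := IsLocalization.exists_mk'_eq P.primeCompl z
      obtain ⟨b, rfl⟩ := hψ b
      obtain ⟨s, rfl⟩ := hψ s
      exact ⟨IsLocalization.mk' _ b ⟨s, show s ∉ Q from fun h => hs (by rw [← hcomap] at h; exact h)⟩,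
        Localization.localRingHom_mk' Q P ψ.toRingHom hcomap.symm _ _⟩
    haveI : IsNoetherianRing (Localization.AtPrime Q) := IsLocalization.isNoetherianRing Q.primeCompl _ inferInstance
    haveI : Algebra.FormallySmooth A (Localization.AtPrime Q) :=
      haveI : Algebra.FormallySmooth R (Localization.AtPrime Q) := .of_isLocalization Q.primeCompl
      .comp A R _
    have hkerπ : RingHom.ker π.toRingHom ≤ IsLocalRing.maximalIdeal (Localization.AtPrime Q) ^ 2 := by
      intro z hz
      obtain ⟨a, ⟨s, hs⟩, rfl⟩ := IsLocalization.exists_mk'_eq Q.primeCompl z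
      have hz' : IsLocalization.mk' (Localization.AtPrime P) (ψ a)
          (⟨ψ s, fun h => hs (by rw [← hcomap]; exact h)⟩ : P.primeCompl) = 0 := by
        rw [← hz]; exact (Localization.localRingHom_mk' Q P ψ.toRingHom hcomap.symm a ⟨s, hs⟩).symm
      obtain ⟨⟨t, ht⟩, ht'⟩ := (IsLocalization.mk'_eq_zero_iff _ _).mp hz'
      obtain ⟨t, rfl⟩ := hψ t
      have hta : t * a ∈ RingHom.ker ψ.toRingHom := by
        show ψ (t * a) = 0
        rw [map_mul]; exact ht'
      have htQ : t ∈ Q.primeCompl := fun h => ht (Ideal.mem_map_of_mem _ h)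
      have hsub : I.map (algebraMap R (Localization.AtPrime Q)) ≤ IsLocalRing.maximalIdeal _ := by
        rw [← Localization.AtPrime.map_eq_maximalIdeal]; exact Ideal.map_mono (le_sup_right.trans hle)
      refine Ideal.pow_right_mono hsub 2 ?_
      rw [← Ideal.map_pow]
      refine (IsLocalization.mk'_mem_map_algebraMap_iff Q.primeCompl _ _ _ _).mpr ⟨t, htQ, hJ hta⟩
    have hbot := ker_eq_bot_of_formallySmooth π hπ (IsNoetherian.noetherian _) hkerπ
    have hmem : algebraMap R (Localization.AtPrime Q) f ∈ RingHom.ker π.toRingHom := by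
      show π (algebraMap R _ f) = 0
      show Localization.localRingHom Q P ψ.toRingHom hcomap.symm _ = 0
      rw [Localization.localRingHom_to_map]
      show algebraMap B _ (ψ f) = 0
      rw [hf, map_zero]
    rw [hbot, Ideal.mem_bot, IsLocalization.map_eq_zero_iff Q.primeCompl] at hmem
    obtain ⟨⟨s, hs⟩, hsf⟩ := hmem
    exact hs (hle (Ideal.mem_sup_left ((hann s).mpr hsf)))
  obtain ⟨s, hs, i, hi, hsi⟩ := Submodule.mem_sup.mp (htop.symm ▸ Submodule.mem_top : (1 : R) ∈ ann ⊔ I)
  have hu : IsUnit ((MvPolynomial.coeToMvPowerSeries.ringHom (σ := Fin n) (R := A)) s) := by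
    rw [MvPowerSeries.isUnit_iff_constantCoeff]
    have : MvPolynomial.constantCoeff s = 1 := by
      have h1 := congrArg (MvPolynomial.constantCoeff (σ := Fin n) (R := A)) hsi
      rwa [map_add, show MvPolynomial.constantCoeff i = 0 from hi, add_zero, map_one] at h1
    rw [MvPolynomial.coeToMvPowerSeries.ringHom_apply, ← MvPowerSeries.coeff_zero_eq_constantCoeff,
      MvPolynomial.coeff_coe]
    show IsUnit (MvPolynomial.constantCoeff s)
    rw [this]; exact isUnit_one
  refine hne (MvPolynomial.coe_injective (σ := Fin n) (R := A) ?_)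
  rw [MvPolynomial.coe_zero]
  refine hu.mul_right_eq_zero.mp ?_
  rw [MvPolynomial.coeToMvPowerSeries.ringHom_apply, ← MvPolynomial.coe_mul, (hann s).mp hs, MvPolynomial.coe_zero]

end GrSm
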