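import Mathlib
import Groth.Agent.GrSm.Poly

universe u
set_option autoImplicit false
open DirectSum

namespace GrSm

variable {A B : Type u} [CommRing A] [CommRing B] [Algebra A B] (𝒜 : ℕ → Submodule A B) [GradedAlgebra 𝒜]

set_option quotPrecheck false in
local notation "I₊" => HomogeneousIdeal.toIdeal (HomogeneousIdeal.irrelevant 𝒜)

theorem proj_mem_irrelevant {d : ℕ} {y : B} (hy : y ∈ I₊) : GradedAlgebra.proj 𝒜 d y ∈ I₊ := by
  rcases Nat.eq_zero_or_pos d with rfl | hd
  · have : GradedAlgebra.proj 𝒜 0 y = 0 := hy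
    rw [this]; exact zero_mem _
  · exact HomogeneousIdeal.mem_irrelevant_of_mem 𝒜 hd (SetLike.coe_mem _)

theorem proj_mem_sq {d : ℕ} {y : B} (hy : y ∈ I₊ ^ 2) : GradedAlgebra.proj 𝒜 d y ∈ I₊ ^ 2 := by
  have h : (I₊ ^ 2).IsHomogeneous 𝒜 := by
    rw [pow_two]
    exact (HomogeneousIdeal.irrelevant 𝒜).isHomogeneous.mul (HomogeneousIdeal.irrelevant 𝒜).isHomogeneous
  exact h d hy

theorem proj_mul_mem {d : ℕ} (S : Subalgebra A B) (h : ∀ e < d, ∀ x ∈ 𝒜 e, x ∈ S) {y : B} (hy : y ∈ I₊ ^ 2) :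
    GradedAlgebra.proj 𝒜 d y ∈ S := by
  classical
  rw [pow_two] at hy
  refine Submodule.mul_induction_on hy ?_ (fun x y hx hy => by rw [map_add]; exact add_mem hx hy)
  intro a ha b hb
  rw [← DirectSum.sum_support_decompose 𝒜 a, ← DirectSum.sum_support_decompose 𝒜 b, Finset.sum_mul_sum, map_sum]
  refine sum_mem fun i hi => ?_
  rw [map_sum]
  refine sum_mem fun j hj => ?_
  have hpos : ∀ {c : B} {k : ℕ}, c ∈ I₊ → k ∈ (decompose 𝒜 c).support → 0 < k := by
    intro c k hc hk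
    rcases Nat.eq_zero_or_pos k with rfl | hk0
    · rw [DFinsupp.mem_support_toFun] at hk
      exact absurd (Subtype.ext (show ((decompose 𝒜 c) 0 : B) = 0 from hc)) hk
    · exact hk0
  have hi0 := hpos ha hi
  have hj0 := hpos hb hj
  have hmem : ((decompose 𝒜 a) i : B) * (decompose 𝒜 b) j ∈ 𝒜 (i + j) :=
    SetLike.mul_mem_graded (SetLike.coe_mem _) (SetLike.coe_mem _)
  show ((decompose 𝒜 (((decompose 𝒜 a) i : B) * (decompose 𝒜 b) j)) d : B) ∈ S
  by_cases hd : i + j = d
  · subst hd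
    rw [DirectSum.decompose_of_mem_same 𝒜 hmem]
    exact mul_mem (h i (by omega) _ (SetLike.coe_mem _)) (h j (by omega) _ (SetLike.coe_mem _))
  · rw [DirectSum.decompose_of_mem_ne 𝒜 hmem hd]; exact zero_mem _

variable [Module.Finite A (HomogeneousIdeal.irrelevant 𝒜).toIdeal.Cotangent]
  [Module.Projective A (HomogeneousIdeal.irrelevant 𝒜).toIdeal.Cotangent]

/-- A section of `B₊ → B₊/B₊²` compatible with the grading. -/
theorem exists_graded_section :
    ∃ σ : (I₊).Cotangent →ₗ[A] I₊, (∀ c, (I₊).toCotangent (σ c) = c) ∧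
      ∀ (d : ℕ) (y : I₊), (y : B) ∈ 𝒜 d → (σ ((I₊).toCotangent y) : B) ∈ 𝒜 d := by
  classical
  let q : I₊ →ₗ[A] (I₊).Cotangent := ((I₊).toCotangent).restrictScalars A
  obtain ⟨σ, hσ⟩ := Module.projective_lifting_property q LinearMap.id (I₊).toCotangent_surjective
  replace hσ : ∀ c, (I₊).toCotangent (σ c) = c := fun c => congr($hσ c)
  let pr : ℕ → (I₊ →ₗ[A] I₊) := fun d =>
    { toFun := fun y => ⟨GradedAlgebra.proj 𝒜 d y.1, proj_mem_irrelevant 𝒜 y.2⟩
      map_add' := fun a b => Subtype.ext (map_add _ _ _)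
      map_smul' := fun a b => Subtype.ext (map_smul _ _ _) }
  let Q : ℕ → ((I₊).Cotangent →ₗ[A] (I₊).Cotangent) := fun d => q ∘ₗ pr d ∘ₗ σ
  have hQ : ∀ d (y : I₊), Q d ((I₊).toCotangent y) = (I₊).toCotangent (pr d y) := by
    intro d y
    refine ((I₊).toCotangent_eq).mpr ?_
    have h2 := ((I₊).toCotangent_eq).mp (hσ ((I₊).toCotangent y))
    show GradedAlgebra.proj 𝒜 d _ - GradedAlgebra.proj 𝒜 d _ ∈ _
    rw [← map_sub]
    exact proj_mem_sq 𝒜 h2
  obtain ⟨T, hT⟩ := Module.Finite.fg_top (R := A) (M := (I₊).Cotangent)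
  let D : Finset ℕ := T.biUnion fun c => (decompose 𝒜 (σ c : B)).support
  let σ' : (I₊).Cotangent →ₗ[A] I₊ := ∑ d ∈ D, pr d ∘ₗ σ ∘ₗ Q d
  have happ : ∀ c, σ' c = ∑ d ∈ D, pr d (σ (Q d c)) := fun c => by
    exact LinearMap.sum_apply _ _ _
  refine ⟨σ', ?_, ?_⟩
  · intro c
    have hsum : ∀ c, ∑ d ∈ D, Q d c = c := by
      have hlin : (∑ d ∈ D, Q d) = LinearMap.id := by
        refine LinearMap.ext_on hT ?_
        intro t ht
        rw [LinearMap.sum_apply, LinearMap.id_apply]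
        show ∑ d ∈ D, (I₊).toCotangent (pr d (σ t)) = t
        rw [← map_sum]
        conv_rhs => rw [← hσ t]
        congr 1
        refine Subtype.ext ?_
        rw [AddSubmonoidClass.coe_finset_sum]
        show ∑ d ∈ D, ((decompose 𝒜 (σ t : B)) d : B) = σ t
        conv_rhs => rw [← DirectSum.sum_support_decompose 𝒜 (σ t : B)]
        refine (Finset.sum_subset (fun d hd => Finset.mem_biUnion.mpr ⟨t, ht, hd⟩) (fun d _ hd => ?_)).symm
        rw [DFinsupp.notMem_support_iff.mp hd]; rfl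
      intro c
      exact ((LinearMap.sum_apply _ _ _).symm.trans congr($hlin c)).trans rfl
    rw [happ, map_sum]
    refine Eq.trans (Finset.sum_congr rfl fun d hd => ?_) (hsum c)
    rw [← hQ, hσ]
    obtain ⟨y, rfl⟩ := (I₊).toCotangent_surjective c
    rw [hQ, hQ]
    congr 1
    refine Subtype.ext ?_
    exact DirectSum.decompose_of_mem_same 𝒜 (SetLike.coe_mem ((decompose 𝒜 (y : B)) d)) |>.trans rfl
  · intro d y hy
    rw [happ, AddSubmonoidClass.coe_finset_sum]
    refine sum_mem fun e he => ?_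
    by_cases hed : e = d
    · subst hed; exact SetLike.coe_mem _
    · have : pr e y = 0 := Subtype.ext (DirectSum.decompose_of_mem_ne 𝒜 hy (Ne.symm hed))
      rw [hQ, this, map_zero, map_zero, map_zero]
      exact zero_mem _

theorem nonempty_algEquiv {n : ℕ} (b : Module.Basis (Fin n) A (I₊).Cotangent) [IsNoetherianRing A]
    (h0 : ∀ x : B, x ∈ 𝒜 0 ↔ x ∈ Set.range (algebraMap A B)) (hinj : Function.Injective (algebraMap A B))
    (hsm : ∀ (P : Ideal B) [P.IsPrime], I₊ ≤ P → Algebra.IsSmoothAt A P) :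
    Nonempty (B ≃ₐ[A] MvPolynomial (Fin n) A) := by
  classical
  obtain ⟨σ, hσ, hσd⟩ := exists_graded_section 𝒜
  let x : Fin n → B := fun i => (σ (b i) : B)
  let ψ : MvPolynomial (Fin n) A →ₐ[A] B := MvPolynomial.aeval x
  have hσmem : ∀ c, (σ c : B) ∈ ψ.range := by
    intro c
    rw [← b.sum_repr c, map_sum, AddSubmonoidClass.coe_finset_sum]
    refine sum_mem fun i _ => ?_
    rw [map_smul]
    exact ψ.range.smul_mem ⟨MvPolynomial.X i, MvPolynomial.aeval_X _ i⟩ _
  have hdeg : ∀ d, ∀ y ∈ 𝒜 d, y ∈ ψ.range := by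
    intro d
    induction d using Nat.strong_induction_on with
    | _ d ih =>
    intro y hy
    rcases Nat.eq_zero_or_pos d with rfl | hd
    · obtain ⟨a, rfl⟩ := (h0 y).mp hy
      exact ψ.range.algebraMap_mem a
    · have hyI : y ∈ I₊ := HomogeneousIdeal.mem_irrelevant_of_mem 𝒜 hd hy
      let z := σ ((I₊).toCotangent ⟨y, hyI⟩)
      have h2 : y - z ∈ I₊ ^ 2 := ((I₊).toCotangent_eq (x := ⟨y, hyI⟩) (y := z)).mp (hσ _).symm
      have h3 : GradedAlgebra.proj 𝒜 d (y - z) = y - z :=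
        DirectSum.decompose_of_mem_same 𝒜 (sub_mem hy (hσd d ⟨y, hyI⟩ hy))
      have h4 := proj_mul_mem 𝒜 ψ.range ih h2 (d := d)
      rw [h3] at h4
      exact sub_add_cancel y (z : B) ▸ add_mem h4 (hσmem ((I₊).toCotangent ⟨y, hyI⟩))
  have hψ : Function.Surjective ψ := by
    intro y
    rw [← DirectSum.sum_support_decompose 𝒜 y]
    exact (AlgHom.mem_range ψ).mp (sum_mem fun d _ => hdeg d _ (SetLike.coe_mem _))
  set IR := RingHom.ker (MvPolynomial.constantCoeff (σ := Fin n) (R := A))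
  have hmap : IR.map ψ.toRingHom ≤ I₊ := by
    rw [show IR = _ from constantCoeff_ker, Ideal.map_span, Ideal.span_le]
    rintro _ ⟨_, ⟨i, rfl⟩, rfl⟩
    show ψ (MvPolynomial.X i) ∈ I₊
    rw [MvPolynomial.aeval_X]; exact (σ (b i)).2
  have hres : ∀ g, ψ g - algebraMap A B (MvPolynomial.constantCoeff g) ∈ I₊ := by
    intro g
    have : g - MvPolynomial.C (MvPolynomial.constantCoeff g) ∈ IR := by
      show MvPolynomial.constantCoeff (g - MvPolynomial.C (MvPolynomial.constantCoeff g)) = 0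
      rw [map_sub, MvPolynomial.constantCoeff_C, sub_self]
    have h := hmap (Ideal.mem_map_of_mem ψ.toRingHom this)
    show ψ g - _ ∈ _
    rw [show algebraMap A B (MvPolynomial.constantCoeff g) = ψ (MvPolynomial.C (MvPolynomial.constantCoeff g)) from
      (ψ.commutes _).symm, ← map_sub]
    exact h
  have hJ : RingHom.ker ψ.toRingHom ≤ IR ^ 2 := by
    intro f hf
    replace hf : ψ f = 0 := hf
    have hc : MvPolynomial.constantCoeff f = 0 := by
      refine hinj ?_
      rw [map_zero]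
      have h1 := hres f
      rw [hf, zero_sub, neg_mem_iff] at h1
      have h2 : GradedAlgebra.proj 𝒜 0 (algebraMap A B (MvPolynomial.constantCoeff f)) = 0 := h1
      exact (DirectSum.decompose_of_mem_same 𝒜 ((h0 _).mpr ⟨_, rfl⟩)).symm.trans h2
    have hfI : f ∈ IR := hc
    rw [show IR = _ from constantCoeff_ker, Ideal.mem_span_range_iff_exists_fun] at hfI
    obtain ⟨g, rfl⟩ := hfI
    let c : Fin n → A := fun i => MvPolynomial.constantCoeff (g i)
    have hzero : ∑ i, c i • b i = 0 := by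
      have h1 : (∑ i, ψ (g i) • σ (b i) : I₊) = 0 := Subtype.ext (by
        rw [AddSubmonoidClass.coe_finset_sum, ZeroMemClass.coe_zero, ← hf, map_sum]
        exact Finset.sum_congr rfl fun i _ => by
          rw [map_mul, MvPolynomial.aeval_X]; rfl)
      have h2 := congrArg (I₊).toCotangent h1
      rw [map_sum, map_zero] at h2
      rw [← h2]
      refine Finset.sum_congr rfl fun i _ => ?_
      rw [map_smul, hσ]
      have h3 : (ψ (g i) - algebraMap A B (c i)) • b i = 0 := by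
        obtain ⟨y, hy⟩ := (I₊).toCotangent_surjective (b i)
        rw [← hy, ← map_smul, Ideal.toCotangent_eq_zero, pow_two]
        exact Ideal.mul_mem_mul (hres (g i)) y.2
      rw [sub_smul, sub_eq_zero] at h3
      rw [h3, algebraMap_smul]
    have hci := Fintype.linearIndependent_iff.mp b.linearIndependent c hzero
    refine sum_mem fun i _ => ?_
    rw [pow_two]
    exact Ideal.mul_mem_mul (hci i) (MvPolynomial.constantCoeff_X A i)
  have hinjψ := injective_of_smooth_at_zero_section ψ hψ hJ (fun P _ hP => hsm P ?_)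
  · exact ⟨(AlgEquiv.ofBijective ψ ⟨hinjψ, hψ⟩).symm⟩
  · rw [HomogeneousIdeal.irrelevant_eq_span, Ideal.span_le]
    intro y hy
    obtain ⟨d, hd, hyd⟩ : ∃ d, 0 < d ∧ y ∈ 𝒜 d := by simpa using hy
    obtain ⟨g, rfl⟩ := hψ y
    have hyI : ψ g ∈ I₊ := HomogeneousIdeal.mem_irrelevant_of_mem 𝒜 hd hyd
    have h1 := hres g
    have h2 : algebraMap A B (MvPolynomial.constantCoeff g) ∈ I₊ := by simpa using sub_mem hyI h1
    have h3 : MvPolynomial.constantCoeff g = 0 := hinj (by
      rw [map_zero]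
      exact (DirectSum.decompose_of_mem_same 𝒜 ((h0 _).mpr ⟨_, rfl⟩)).symm.trans h2)
    exact hP (Ideal.mem_map_of_mem ψ.toRingHom (show g ∈ IR from h3))

end GrSm
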